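import Cfsg.Agent.Lib.CJ2Am.Local
import Cfsg.Agent.S3189
import Cfsg.Agent.S1230

/-!
# The case `m = 4`: the normal simple subgroup is `PSL₂(8)`
-/

set_option autoImplicit false
set_option linter.style.haveILetI false
set_option linter.unusedSectionVars false
set_option linter.unusedVariables false

namespace Cfsg.Agent.Lib.CJ2Am

variable {G : Type*} [Group G] [Finite G]
variable {J : G} {T : Subgroup G} {φ : T ≃* alternatingGroup (Fin 4)} {P : Sylow 2 G}

theorem four_conj_mem (hS : Setup J T φ P) {x : G} (hx : x ∈ Subgroup.centralizer ({J} : Set G))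
    {p : G} (hp : p ∈ (P : Subgroup G)) : x * p * x⁻¹ ∈ (P : Subgroup G) := by
  obtain ⟨a, ha, haT, b, hb, hbT, ha1, hb1, hab⟩ := hS.exists_ab
  have hT : ∀ {w : G}, w ∈ T → ∀ {p : G}, p ∈ (P : Subgroup G) → w * p * w⁻¹ ∈ (P : Subgroup G) := by
    intro w hw
    have hmul : ∀ {u v : G} (hu : u ∈ T) (hv : v ∈ T) (huv : u * v ∈ T),
        φ ⟨u * v, huv⟩ = φ ⟨u, hu⟩ * φ ⟨v, hv⟩ := by
      intro u v hu hv huv
      rw [← map_mul]
      rfl
    have hone : φ ⟨1, one_mem T⟩ = 1 := map_one φ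
    have hsq : ∀ {z : G} (hz : z ∈ T) (hzP : z ∈ (P : Subgroup G)), φ ⟨z, hz⟩ ^ 2 = 1 :=
      fun hz hzP => (hS.phi_pow hz 2).mpr (hS.exp2 hzP)
    have hne : ∀ {u v : G} (hu : u ∈ T) (hv : v ∈ T), u ≠ v → φ ⟨u, hu⟩ ≠ φ ⟨v, hv⟩ := by
      intro u v hu hv huv h
      exact huv (Subtype.mk.inj (φ.injective h))
    have hcomm : ∀ {u v : G} (hu : u ∈ T) (hv : v ∈ T), u * v = v * u →
        φ ⟨u, hu⟩ * φ ⟨v, hv⟩ = φ ⟨v, hv⟩ * φ ⟨u, hu⟩ := by
      intro u v hu hv huv
      rw [← hmul hu hv (mul_mem hu hv), ← hmul hv hu (mul_mem hv hu)]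
      congr 1
      exact Subtype.ext huv
    have key : ∀ {c d : G}, c ∈ (P : Subgroup G) → c ∈ T → d ∈ (P : Subgroup G) → d ∈ T → c ≠ 1 →
        d ≠ 1 → c ≠ d → w * c * w⁻¹ ∈ (P : Subgroup G) := by
      intro c d hc hcT hd hdT hc1 hd1 hcd
      have hconjT : w * c * w⁻¹ ∈ T := mul_mem (mul_mem hw hcT) (inv_mem hw)
      have hφ : φ ⟨w * c * w⁻¹, hconjT⟩ = φ ⟨w, hw⟩ * φ ⟨c, hcT⟩ * (φ ⟨w, hw⟩)⁻¹ := by
        rw [← map_inv, ← map_mul, ← map_mul]
        rfl
      have h := four_normal (φ ⟨c, hcT⟩) (hsq hcT hc)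
        (by rw [← hone]; exact hne hcT (one_mem T) hc1) (φ ⟨d, hdT⟩) (hsq hdT hd)
        (by rw [← hone]; exact hne hdT (one_mem T) hd1) (hne hcT hdT hcd)
        (hcomm hcT hdT (hS.comm hc hd)) (φ ⟨w, hw⟩)
      rw [← hφ] at h
      rcases h with h | h | h
      · rw [show w * c * w⁻¹ = c from Subtype.mk.inj (φ.injective h)]
        exact hc
      · rw [show w * c * w⁻¹ = d from Subtype.mk.inj (φ.injective h)]
        exact hd
      · rw [← hmul hcT hdT (mul_mem hcT hdT)] at h
        rw [show w * c * w⁻¹ = c * d from Subtype.mk.inj (φ.injective h)]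
        exact mul_mem hc hd
    have hwa := key ha haT hb hbT ha1 hb1 hab
    have hwb := key hb hbT ha haT hb1 ha1 hab.symm
    have hwJ : w * J * w⁻¹ = J := by
      rw [← hS.J_comm hw]
      group
    have hm : ∀ u v : G, w * (u * v) * w⁻¹ = (w * u * w⁻¹) * (w * v * w⁻¹) := by
      intro u v; group
    intro p hp
    rcases hS.list_P ha haT hb hbT ha1 hb1 hab hp with (rfl | rfl | rfl | rfl) | (rfl | rfl | rfl | rfl)
    · simp
    · exact hwa
    · exact hwb
    · rw [hm]; exact mul_mem hwa hwb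
    · rw [hwJ]; exact hS.JP
    · rw [hm, hwJ]; exact mul_mem hS.JP hwa
    · rw [hm, hwJ]; exact mul_mem hS.JP hwb
    · rw [hm, hm, hwJ]; exact mul_mem hS.JP (mul_mem hwa hwb)
  rcases (hS.mem_C x).mp hx with h | h
  · exact hT h hp
  · have h1 := hT h hp
    have h2 : x * p * x⁻¹ = J⁻¹ * ((J * x) * p * (J * x)⁻¹) * J := by group
    rw [h2, hS.J_inv]
    exact mul_mem (mul_mem hS.JP h1) hS.JP

theorem four_mem_normalizer (hS : Setup J T φ P) {x : G}
    (hx : x ∈ Subgroup.centralizer ({J} : Set G)) :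
    x ∈ Subgroup.normalizer ((P : Subgroup G) : Set G) := by
  rw [Subgroup.mem_normalizer_iff]
  intro p
  refine ⟨fun hp => four_conj_mem hS hx hp, fun hp => ?_⟩
  have := four_conj_mem hS (inv_mem hx) hp
  simpa [mul_assoc] using this

theorem four_pow_six' (hS : Setup J T φ P) {x : G} (hx : x ∈ Subgroup.centralizer ({J} : Set G)) :
    x ^ 6 = 1 := by
  have hp : ∀ {w : G}, w ∈ T → w ^ 6 = 1 := fun {w} hw => (hS.phi_pow hw 6).mp (four_pow_six _)
  rcases (hS.mem_C x).mp hx with h | h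
  · exact hp h
  · have hc : Commute J x := (hS.C_comm hx).symm
    have h1 := hp h
    rw [hc.mul_pow] at h1
    have h2 : J ^ 6 = 1 := by
      have : (6 : ℕ) = 2 * 3 := rfl
      rw [this, pow_mul, hS.J_sq', one_pow]
    rwa [h2, one_mul] at h1

/-- `C(J)` is solvable. -/
theorem four_solvable_C (hS : Setup J T φ P) :
    Group.IsSolvable (Subgroup.centralizer ({J} : Set G)) := by
  classical
  set C := Subgroup.centralizer ({J} : Set G) with hC
  let N : Subgroup C := (P : Subgroup G).subgroupOf C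
  haveI hN : N.Normal := ⟨fun n hn g => by
    rw [Subgroup.mem_subgroupOf] at hn ⊢
    exact four_conj_mem hS g.2 hn⟩
  have hcN : Nat.card N = 8 := by
    rw [← hS.card_P]
    exact Nat.card_congr (Subgroup.subgroupOfEquivOfLe hS.P_le_C).toEquiv
  have hcC : Nat.card C = 24 := by
    rw [hC, hS.card_C, card_four]
  have hq : Nat.card (C ⧸ N) = 3 := by
    have h1 := Subgroup.card_mul_index N
    rw [hcN, hcC] at h1
    have h2 : N.index = 3 := by omega
    rw [← h2]
    rfl
  haveI : Fact (Nat.Prime (Nat.card (C ⧸ N))) := ⟨by rw [hq]; norm_num⟩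
  haveI : IsCyclic (C ⧸ N) := isCyclic_of_prime_card rfl
  haveI : Group.IsSolvable (C ⧸ N) := Group.isSolvable_of_comm (fun a b => (IsCyclic.commGroup (α := C ⧸ N)).mul_comm a b)
  haveI : Group.IsSolvable N := Group.isSolvable_of_comm (fun a b => by
    apply Subtype.ext
    apply Subtype.ext
    exact hS.comm (Subgroup.mem_subgroupOf.mp a.2) (Subgroup.mem_subgroupOf.mp b.2))
  exact Group.isSolvable_of_ker_le_range N.subtype (QuotientGroup.mk' N) (by simp)

/-- Elements of `KK P` centralising `J` lie in `P`, via the order of `N_K(P)/C_K(P)`. -/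
theorem four_C_inter (hS : Setup J T φ P) (hD : Data P) {x : G} (hxK : x ∈ KK P)
    (hx : x ∈ Subgroup.centralizer ({J} : Set G)) : x ∈ (P : Subgroup G) := by
  classical
  haveI hsimp := hD.isSimple_K
  have hPK := le_KK P
  set P' : Sylow 2 (KK P) := P.subtype hPK with hP'
  have hP'mem : ∀ x : KK P, x ∈ (P' : Subgroup (KK P)) ↔ (x : G) ∈ (P : Subgroup G) := by
    intro x
    rw [hP', Sylow.coe_subtype]
    exact Subgroup.mem_subgroupOf
  have hG : ¬ IsMulCommutative (KK P) := by
    intro hc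
    apply hD.not_normal_K
    refine ⟨fun n hn g => ?_⟩
    have h1 : g * n * g⁻¹ = n := by
      have := hc.is_comm.comm g n
      rw [this]
      group
    rw [h1]
    exact hn
  have hel : Cfsg.IsElementaryAbelian 2 (P' : Subgroup (KK P)) := by
    refine ⟨⟨⟨fun a b => ?_⟩⟩, fun a ha => ?_⟩
    · apply Subtype.ext
      apply Subtype.ext
      exact hD.comm ((hP'mem _).mp a.2) ((hP'mem _).mp b.2)
    · apply Subtype.ext
      exact hD.exp2 _ ((hP'mem _).mp ha)
  have h8 : Nat.card (P' : Subgroup (KK P)) = 8 := by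
    rw [← hS.card_P, hP', Sylow.coe_subtype]
    exact Nat.card_congr (Subgroup.subgroupOfEquivOfLe hPK).toEquiv
  have hC : ∀ t : KK P, orderOf t = 2 →
      Group.IsSolvable (Subgroup.centralizer ({t} : Set (KK P))) := by
    intro t ht
    have ht' : orderOf (t : G) = 2 := by rw [Subgroup.orderOf_coe]; exact ht
    obtain ⟨k, hk, hkt⟩ := hD.conj_K ht' hS.ordJ
    haveI := four_solvable_C hS
    have hmem : ∀ c : Subgroup.centralizer ({t} : Set (KK P)),
        k * ((c : KK P) : G) * k⁻¹ ∈ Subgroup.centralizer ({J} : Set G) := by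
      intro c
      rw [Subgroup.mem_centralizer_singleton_iff]
      have h1 : (c : KK P) * t = t * (c : KK P) := Subgroup.mem_centralizer_singleton_iff.mp c.2
      have h2 : ((c : KK P) : G) * (t : G) = (t : G) * ((c : KK P) : G) := congrArg Subtype.val h1
      rw [← hkt]
      calc k * ((c : KK P) : G) * k⁻¹ * (k * t * k⁻¹) = k * (((c : KK P) : G) * t) * k⁻¹ := by group
        _ = k * ((t : G) * ((c : KK P) : G)) * k⁻¹ := by rw [h2]
        _ = k * t * k⁻¹ * (k * ((c : KK P) : G) * k⁻¹) := by group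
    let f : Subgroup.centralizer ({t} : Set (KK P)) →* Subgroup.centralizer ({J} : Set G) :=
      MonoidHom.mk' (fun c => ⟨k * ((c : KK P) : G) * k⁻¹, hmem c⟩) (by
        intro a b
        apply Subtype.ext
        change k * (((a : KK P) : G) * ((b : KK P) : G)) * k⁻¹ =
          k * ((a : KK P) : G) * k⁻¹ * (k * ((b : KK P) : G) * k⁻¹)
        group)
    have hf : Function.Injective f := by
      intro a b hab
      have h1 : k * ((a : KK P) : G) * k⁻¹ = k * ((b : KK P) : G) * k⁻¹ := congrArg Subtype.val hab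
      have h2 : ((a : KK P) : G) = ((b : KK P) : G) := by
        simpa using h1
      exact Subtype.ext (Subtype.ext h2)
    exact Group.isSolvable_of_isSolvable_injective hf
  have hrel := Cfsg.Agent.S3189.result hG P' hel h8 hC
  set c := Subgroup.centralizer (((P' : Subgroup (KK P)) : Set (KK P))) with hc
  set n := Subgroup.normalizer (((P' : Subgroup (KK P)) : Set (KK P))) with hn
  haveI hcn : (c.subgroupOf n).Normal := by
    refine ⟨fun z hz g => ?_⟩
    rw [Subgroup.mem_subgroupOf] at hz ⊢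
    rw [hc, Subgroup.mem_centralizer_iff] at hz ⊢
    intro p hp
    have hgp : ((g : n) : KK P)⁻¹ * p * ((g : n) : KK P) ∈ (P' : Subgroup (KK P)) := by
      have := (Subgroup.mem_normalizer_iff.mp (g⁻¹ : n).2 p).mp hp
      simpa using this
    have hz2 := hz _ hgp
    simp only [Subgroup.coe_mul, InvMemClass.coe_inv] at hz2 ⊢
    calc p * (((g : n) : KK P) * (z : KK P) * ((g : n) : KK P)⁻¹)
        = ((g : n) : KK P) * (((g : n) : KK P)⁻¹ * p * ((g : n) : KK P) * (z : KK P)) *
            ((g : n) : KK P)⁻¹ := by group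
      _ = ((g : n) : KK P) * ((z : KK P) * (((g : n) : KK P)⁻¹ * p * ((g : n) : KK P))) *
            ((g : n) : KK P)⁻¹ := by rw [hz2]
      _ = ((g : n) : KK P) * (z : KK P) * ((g : n) : KK P)⁻¹ * p := by group
  have hxN : (⟨x, hxK⟩ : KK P) ∈ n := by
    rw [hn, Subgroup.mem_normalizer_iff]
    intro h
    rw [hP'mem, hP'mem]
    have := Subgroup.mem_normalizer_iff.mp (four_mem_normalizer hS hx) (h : G)
    exact this
  have hpow := Subgroup.pow_index_mem (c.subgroupOf n) (⟨⟨x, hxK⟩, hxN⟩ : n)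
  have hidx : (c.subgroupOf n).index = 7 := hrel
  rw [hidx, Subgroup.mem_subgroupOf] at hpow
  have hx7 : ((⟨⟨x, hxK⟩, hxN⟩ : n) ^ 7 : n) = ⟨⟨x, hxK⟩, hxN⟩ := by
    apply Subtype.ext
    apply Subtype.ext
    change x ^ 7 = x
    rw [pow_succ, four_pow_six' hS hx, one_mul]
  rw [hx7] at hpow
  apply hD.selfc
  intro p hp
  rw [hc, Subgroup.mem_centralizer_iff] at hpow
  have h := hpow ⟨p, hPK hp⟩ ((hP'mem _).mpr hp)
  exact (congrArg Subtype.val h).symm

/-- The simple group is `PSL₂(8)`. -/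
theorem four_psl (hS : Setup J T φ P) (hD : Data P) :
    ∃ (F : Type) (_ : Field F) (_ : Fintype F), Fintype.card F = 8 ∧
      Nonempty (KK P ≃* Matrix.ProjectiveSpecialLinearGroup (Fin 2) F) := by
  classical
  have hPK := le_KK P
  set P' : Sylow 2 (KK P) := P.subtype hPK with hP'
  have hP'mem : ∀ x : KK P, x ∈ (P' : Subgroup (KK P)) ↔ (x : G) ∈ (P : Subgroup G) := by
    intro x
    rw [hP', Sylow.coe_subtype]
    exact Subgroup.mem_subgroupOf
  have h8 : Nat.card (P' : Subgroup (KK P)) = 8 := by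
    rw [← hS.card_P, hP', Sylow.coe_subtype]
    exact Nat.card_congr (Subgroup.subgroupOfEquivOfLe hPK).toEquiv
  have hnc : ¬ IsCyclic (P' : Subgroup (KK P)) := by
    intro hcyc
    obtain ⟨g, hg⟩ := IsCyclic.exists_ofOrder_eq_natCard (α := (P' : Subgroup (KK P)))
    rw [h8] at hg
    have h2 : g ^ 2 = 1 := by
      apply Subtype.ext
      apply Subtype.ext
      exact hD.exp2 _ ((hP'mem _).mp g.2)
    have h3 := orderOf_dvd_of_pow_eq_one h2
    rw [hg] at h3
    norm_num at h3
  have hC : ∀ t : KK P, orderOf t = 2 →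
      IsMulCommutative (Subgroup.centralizer ({t} : Set (KK P))) ∧
        ∀ c ∈ Subgroup.centralizer ({t} : Set (KK P)), c ^ 2 = 1 := by
    intro t ht
    have ht' : orderOf (t : G) = 2 := by rw [Subgroup.orderOf_coe]; exact ht
    obtain ⟨k, hk, hkt⟩ := hD.conj_K ht' hS.ordJ
    have hmem : ∀ c ∈ Subgroup.centralizer ({t} : Set (KK P)),
        k * (c : G) * k⁻¹ ∈ (P : Subgroup G) := by
      intro c hc
      apply four_C_inter hS hD
      · exact mul_mem (mul_mem hk c.2) (inv_mem hk)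
      · rw [Subgroup.mem_centralizer_singleton_iff]
        have h1 : c * t = t * c := Subgroup.mem_centralizer_singleton_iff.mp hc
        have h2 : (c : G) * (t : G) = (t : G) * (c : G) := congrArg Subtype.val h1
        rw [← hkt]
        calc k * (c : G) * k⁻¹ * (k * t * k⁻¹) = k * ((c : G) * t) * k⁻¹ := by group
          _ = k * ((t : G) * (c : G)) * k⁻¹ := by rw [h2]
          _ = k * t * k⁻¹ * (k * (c : G) * k⁻¹) := by group
    constructor
    · refine ⟨⟨fun a b => ?_⟩⟩
      apply Subtype.ext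
      apply Subtype.ext
      have h := hD.comm (hmem _ a.2) (hmem _ b.2)
      have h2 : k * (((a : KK P) : G) * ((b : KK P) : G)) * k⁻¹ =
          k * (((b : KK P) : G) * ((a : KK P) : G)) * k⁻¹ := by
        calc k * (((a : KK P) : G) * ((b : KK P) : G)) * k⁻¹
            = k * ((a : KK P) : G) * k⁻¹ * (k * ((b : KK P) : G) * k⁻¹) := by group
          _ = k * ((b : KK P) : G) * k⁻¹ * (k * ((a : KK P) : G) * k⁻¹) := h
          _ = k * (((b : KK P) : G) * ((a : KK P) : G)) * k⁻¹ := by group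
      simpa using h2
    · intro c hc
      apply Subtype.ext
      have h := hD.exp2 _ (hmem c hc)
      have h2 : k * ((c : G) ^ 2) * k⁻¹ = 1 := by
        rw [← h, sq, sq]
        group
      have h3 : (c : G) ^ 2 = 1 := by
        have h4 : k * ((c : G) ^ 2) = k := by
          calc k * ((c : G) ^ 2) = (k * ((c : G) ^ 2) * k⁻¹) * k := by group
            _ = k := by rw [h2, one_mul]
        simpa using h4
      simpa using h3
  obtain ⟨F, i1, i2, hcard, he⟩ := Cfsg.Agent.S1230.result P' hnc hD.not_normal_K hC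
  exact ⟨F, i1, i2, by rw [hcard, h8], he⟩

end Cfsg.Agent.Lib.CJ2Am
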