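import Cfsg.Agent.Lib.CJ2Am.Four
import Cfsg.Agent.Lib.KS71.PSLAutGroup
import Cfsg.Agent.Lib.EPPO7.PSL7

/-!
# The case `m = 4`: `G` is the automorphism group of `PSL₂(8)`
-/

set_option autoImplicit false
set_option linter.style.haveILetI false
set_option linter.unusedSectionVars false
set_option linter.unusedVariables false

namespace Cfsg.Agent.Lib.CJ2Am

variable {G : Type*} [Group G] [Finite G]
variable {J : G} {T : Subgroup G} {φ : T ≃* alternatingGroup (Fin 4)} {P : Sylow 2 G}

/-- In characteristic two `PSL(2,K)` and `PGL(2,K)` coincide. -/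
theorem pgl_equiv_psl_two {K : Type*} [Field K] [Fintype K] (h : ringChar K = 2) :
    Nonempty (Matrix.ProjGenLinGroup (Fin 2) K ≃* Matrix.ProjectiveSpecialLinearGroup (Fin 2) K) := by
  refine ⟨(MulEquiv.ofBijective Matrix.ProjectiveSpecialLinearGroup.toPGL
    ⟨Matrix.ProjectiveSpecialLinearGroup.toPGL_injective,
      Matrix.ProjectiveSpecialLinearGroup.toPGL_surj_of_roots ?_⟩).symm⟩
  intro r
  obtain ⟨k, hk⟩ := FiniteField.isSquare_of_char_two h (r : K)
  have hk0 : k ≠ 0 := by
    rintro rfl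
    rw [mul_zero] at hk
    exact r.ne_zero hk
  refine ⟨Units.mk0 k hk0, ?_⟩
  ext
  simp [pow_two, hk]

theorem card_psl_eight {F : Type*} [Field F] [Fintype F] (hF : Fintype.card F = 8) :
    Nat.card (Matrix.ProjectiveSpecialLinearGroup (Fin 2) F) = 504 := by
  have h := Cfsg.Agent.Lib.EPPO7.card_psl2 F
  rw [hF] at h
  norm_num at h
  exact h

theorem card_aut_psl_eight {F : Type*} [Field F] [Fintype F] (hF : Fintype.card F = 8) :
    Nat.card (MulAut (Matrix.ProjectiveSpecialLinearGroup (Fin 2) F)) = 1512 := by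
  haveI : Fact (Nat.Prime 2) := ⟨Nat.prime_two⟩
  have h := Cfsg.Agent.Lib.KS71.PSLAutGroup.card_two (F := F) (p := 2) (f := 3)
    (by rw [hF]; norm_num) (by norm_num)
  have hchar : ringChar F = 2 := FiniteField.even_card_iff_char_two.mpr (by rw [hF])
  obtain ⟨ψ⟩ := pgl_equiv_psl_two hchar
  rw [h, Nat.card_congr ψ.toEquiv, card_psl_eight hF]

/-- The conclusion in the case `m = 4`. -/
theorem four_final (hS : Setup J T φ P) (hnn : ¬ (P : Subgroup G).Normal) :
    ∃ (F : Type) (_ : Field F) (_ : Fintype F), Fintype.card F = 8 ∧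
      Nonempty (G ≃* MulAut (Matrix.ProjectiveSpecialLinearGroup (Fin 2) F)) := by
  classical
  have hD := hS.toData hnn
  obtain ⟨F, i1, i2, hcard, ⟨e⟩⟩ := four_psl hS hD
  refine ⟨F, i1, i2, hcard, ?_⟩
  have hcK : Nat.card (KK P) = 504 := by
    rw [Nat.card_congr e.toEquiv, card_psl_eight hcard]
  let ι : G →* MulAut (KK P) := MulAut.conjNormal
  have hι : ∀ (x : G) (h : KK P), ((ι x h : KK P) : G) = x * h * x⁻¹ := fun x h =>
    MulAut.conjNormal_apply x h
  have hinj : Function.Injective ι := by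
    rw [injective_iff_map_eq_one]
    intro x hx
    have hcomm : ∀ h ∈ KK P, x * h = h * x := by
      intro h hh
      have h1 : x * h * x⁻¹ = h := by
        have := hι x ⟨h, hh⟩
        rw [hx] at this
        exact this.symm
      calc x * h = (x * h * x⁻¹) * x := by group
        _ = h * x := by rw [h1]
    have hxP : x ∈ (P : Subgroup G) := hD.selfc x (fun p hp => hcomm p (le_KK P hp))
    by_contra hx1
    have hxo : orderOf x = 2 := hD.orderOf_eq_two hxP hx1
    have hall : ∀ i ∈ (P : Subgroup G), i ≠ 1 → i = x := by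
      intro i hi hi1
      obtain ⟨k, hk, hki⟩ := hD.conj_K hxo (hD.orderOf_eq_two hi hi1)
      rw [← hki, ← hcomm k hk]
      group
    obtain ⟨a, ha, b, hb, ha1, hb1, hab1⟩ := hD.exists_pair
    have h1 := hall a ha ha1
    have h2 := hall b hb hb1
    have h3 := hall (a * b) (mul_mem ha hb) hab1
    rw [h1, h2] at h3
    have h4 : x = 1 := by
      have := mul_left_cancel (a := x) (b := x) (c := 1) (by rw [h3, mul_one])
      exact this
    exact hx1 h4
  let Φ : G →* MulAut (Matrix.ProjectiveSpecialLinearGroup (Fin 2) F) :=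
    (MulAut.congr e).toMonoidHom.comp ι
  have hΦ : Function.Injective Φ := (MulAut.congr e).injective.comp hinj
  have hdvd : Nat.card G ∣ 1512 := by
    have := Subgroup.card_dvd_of_injective Φ hΦ
    rwa [card_aut_psl_eight hcard] at this
  obtain ⟨d, hd⟩ : 504 ∣ Nat.card G := by
    have := Subgroup.card_dvd_of_le (le_top : KK P ≤ ⊤)
    rwa [Subgroup.card_top, hcK] at this
  have hne : Nat.card G ≠ 504 := by
    intro h
    have htop : KK P = ⊤ := Subgroup.eq_top_of_card_eq _ (by rw [hcK, h])
    obtain ⟨a, ha, haT, b, hb, hbT, ha1, hb1, hab⟩ := hS.exists_ab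
    obtain ⟨y, hyT, hy3, hya, hyb⟩ := hS.exists_rot ha haT hb hbT ha1 hb1 hab
    have hyC : y ∈ Subgroup.centralizer ({J} : Set G) := hS.hd.2.1 hyT
    have hyP := four_C_inter hS hD (by rw [htop]; exact Subgroup.mem_top _) hyC
    have h1 := hD.comm hyP ha
    apply hab
    rw [← hya, h1]
    group
  have hG : Nat.card G = 1512 := by
    rw [hd] at hdvd hne ⊢
    have hd3 : d ∣ 3 := by
      have : 504 * d ∣ 504 * 3 := by simpa using hdvd
      exact Nat.dvd_of_mul_dvd_mul_left (by norm_num) this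
    have hd13 := (Nat.dvd_prime Nat.prime_three).mp hd3
    rcases hd13 with h | h
    · subst h
      simp at hne
    · subst h
      rfl
  have hbij : Function.Bijective Φ :=
    (Nat.bijective_iff_injective_and_card Φ).mpr ⟨hΦ, by rw [hG, card_aut_psl_eight hcard]⟩
  exact ⟨MulEquiv.ofBijective Φ hbij⟩

end Cfsg.Agent.Lib.CJ2Am
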